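import Mathlib
import Cfsg.Agent.Lib.Helper83.SnB.Q8MDefs

set_option autoImplicit false

/-!
S2986, package [Q8-M] (helper83), sub-package [M-XB]: the facts on an exceptional block.
-/

namespace Cfsg.Agent.Lib.Helper62.SnB

open Cfsg Cfsg.Agent.Lib.Helper41.SnB Cfsg.Agent.Lib.Helper34.SnB Cfsg.Agent.Lib.Helper83.SnB

universe u

variable {G : Type u} [Group G]

/-- Membership in `V = Ω₁(Z(O_p(G)))`. -/
theorem mem_Vb_of {p : ℕ} {x : G} (h1 : x ∈ pCore p G)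
    (h2 : ∀ c ∈ pCore p G, c * x = x * c) (h3 : x ^ p = 1) : x ∈ Vb p G :=
  Subgroup.subset_closure ⟨⟨h1, Subgroup.mem_centralizer_iff.mpr h2⟩, h3⟩

/-- An element of `3`-power order cannot invert a nontrivial element of order `3`. -/
theorem eq_one_of_three {c ζ : G} (hc : ∃ n : ℕ, c ^ (3 ^ n) = 1) (hζ : ζ ^ 3 = 1)
    (h : c * ζ * c⁻¹ = ζ ^ 2) : ζ = 1 := by
  obtain ⟨n, hn⟩ := hc
  have h1 : c * ζ = ζ ^ 2 * c := by rw [← h]; group
  have h2 : c * ζ ^ 2 = ζ * c := by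
    calc c * ζ ^ 2 = (c * ζ) * ζ := by rw [pow_two, mul_assoc]
      _ = ζ ^ 2 * c * ζ := by rw [h1]
      _ = ζ ^ 2 * (c * ζ) := by rw [mul_assoc]
      _ = ζ ^ 2 * (ζ ^ 2 * c) := by rw [h1]
      _ = ζ ^ 3 * ζ * c := by group
      _ = ζ * c := by rw [hζ, one_mul]
  have h3 : Commute (c * c) ζ := by
    show c * c * ζ = ζ * (c * c)
    calc c * c * ζ = c * (c * ζ) := by rw [mul_assoc]
      _ = c * ζ ^ 2 * c := by rw [h1, mul_assoc]
      _ = ζ * c * c := by rw [h2]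
      _ = ζ * (c * c) := by rw [mul_assoc]
  obtain ⟨r, hr⟩ : Odd (3 ^ n) := Odd.pow (by decide)
  have h4 : (c * c) ^ (r + 1) = c := by
    rw [← pow_two, ← pow_mul]
    have h41 : 2 * (r + 1) = 3 ^ n + 1 := by omega
    rw [h41, pow_succ, hn, one_mul]
  have h5 : Commute c ζ := by
    have h51 := h3.pow_left (r + 1)
    rwa [h4] at h51
  have h6 : ζ = ζ ^ 2 := by
    rw [← h, h5.eq]; group
  have h7 : ζ * 1 = ζ * ζ := by rw [mul_one, ← pow_two]; exact h6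
  exact (mul_left_cancel h7).symm

/-- [M-XB] the facts on an exceptional block. -/
theorem pkgXB : PkgXB.{u} := by
  intro G _ _ p _ S₀ X K z gf sb bf q8 b1 exc nq
  have p3 : p = 3 := gf.p3
  have : Fact (Nat.Prime 3) := ⟨by norm_num⟩
  have hzX : z ∈ X := q8.KX q8.zK
  have hZW : Zb p X ≤ Wb p X := inf_le_left
  have hZQ : Zb p X ≤ Qb p X := hZW.trans bf.WQ
  have hZP : Zb p X ≤ pCore p G := hZQ.trans sb.QP
  -- `Z = {1, ζ, ζ²}`
  have hZ3 : ∀ ζ ∈ Zb p X, ζ ≠ 1 → ∀ y ∈ Zb p X, y = 1 ∨ y = ζ ∨ y = ζ ^ 2 := by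
    intro ζ hζ hζ1 y hy
    have hζ3 : ζ ^ 3 = 1 := b1.W3 ζ (hZW hζ)
    have hord : orderOf ζ = 3 := orderOf_eq_prime hζ3 hζ1
    have hle : Subgroup.zpowers ζ ≤ Zb p X := (Subgroup.zpowers_le).mpr hζ
    have hcard : Nat.card ↥(Zb p X) ≤ Nat.card ↥(Subgroup.zpowers ζ) := by
      rw [Nat.card_zpowers, hord, exc.cardZ]
    have heq := Subgroup.eq_of_le_of_card_ge hle hcard
    have hy' : y ∈ Subgroup.zpowers ζ := heq ▸ hy
    rw [← mem_powers_iff_mem_zpowers, Submonoid.mem_powers_iff] at hy'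
    obtain ⟨n, rfl⟩ := hy'
    rw [← pow_mod_orderOf, hord]
    have hn3 : n % 3 < 3 := Nat.mod_lt _ (by norm_num)
    interval_cases (n % 3) <;> simp
  have hZcP : ∀ ζ ∈ Zb p X, ∀ c ∈ pCore p G, c * ζ = ζ * c := by
    intro ζ hζ c hc
    by_cases hζ1 : ζ = 1
    · rw [hζ1]; simp
    have hcN := sb.PN hc
    have hy := bf.nZ c hcN ζ hζ
    rcases hZ3 ζ hζ hζ1 _ hy with h | h | h
    · exfalso; apply hζ1
      have h0 : ζ = c⁻¹ * (c * ζ * c⁻¹) * c := by group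
      rw [h0, h]; group
    · calc c * ζ = c * ζ * c⁻¹ * c := by group
        _ = ζ * c := by rw [h]
    · exact absurd (eq_one_of_three (gf.Pp c hc) (b1.W3 ζ (hZW hζ)) h) hζ1
  have ZV : Zb p X ≤ Vb p G := by
    intro ζ hζ
    exact mem_Vb_of (hZP hζ) (hZcP ζ hζ) (by rw [p3]; exact b1.W3 ζ (hZW hζ))
  have WV : Wb p X ≤ Vb p G := by
    intro w hw
    obtain ⟨a, ha, ζ, hζ, rfl⟩ := exc.WAZ w hw
    exact (Vb p G).mul_mem (sb.AV ha) (ZV hζ)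
  have cardW : Nat.card ↥(Wb p X) = 27 := by
    have hbij : Function.Bijective (fun x : ↥(Ab p X) × ↥(Zb p X) =>
        (⟨(x.1 : G) * (x.2 : G), (Wb p X).mul_mem (bf.AW x.1.2) (hZW x.2.2)⟩ : ↥(Wb p X))) := by
      constructor
      · rintro ⟨⟨a, ha⟩, ⟨ζ, hζ⟩⟩ ⟨⟨a', ha'⟩, ⟨ζ', hζ'⟩⟩ h
        have h1 : a * ζ = a' * ζ' := congrArg (fun t : ↥(Wb p X) => (t : G)) h
        have h2 : a'⁻¹ * a = ζ' * ζ⁻¹ := by
          calc a'⁻¹ * a = a'⁻¹ * (a * ζ) * ζ⁻¹ := by group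
            _ = ζ' * ζ⁻¹ := by rw [h1]; group
        have h3 : a'⁻¹ * a = 1 :=
          b1.AZ0 _ ((Ab p X).mul_mem ((Ab p X).inv_mem ha') ha)
            (h2 ▸ (Zb p X).mul_mem hζ' ((Zb p X).inv_mem hζ))
        have h4 : a' = a := inv_mul_eq_one.mp h3
        subst h4
        have h5 : ζ = ζ' := mul_left_cancel h1
        subst h5
        rfl
      · rintro ⟨w, hw⟩
        obtain ⟨a, ha, ζ, hζ, rfl⟩ := exc.WAZ w hw
        exact ⟨(⟨a, ha⟩, ⟨ζ, hζ⟩), rfl⟩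
    rw [← Nat.card_congr (Equiv.ofBijective _ hbij), Nat.card_prod, q8.cardA, exc.cardZ]
  have u9 : ∀ u ∈ Qb p X, u ^ 9 ∈ Wb p X := by
    intro u hu
    have : ((Wb p X).subgroupOf (Qb p X)).Normal := by
      constructor
      intro n hn g
      rw [Subgroup.mem_subgroupOf] at hn ⊢
      have h0 : ((g * n * g⁻¹ : ↥(Qb p X)) : G) = (n : G) := by
        have h00 := bf.WcQ n hn g g.2
        push_cast
        rw [← h00]; group
      rw [h0]; exact hn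
    have hidx : ((Wb p X).subgroupOf (Qb p X)).index = 9 := by
      have h1 := Subgroup.card_mul_index ((Wb p X).subgroupOf (Qb p X))
      have h2 : Nat.card ↥((Wb p X).subgroupOf (Qb p X)) = 27 := by
        rw [Nat.card_congr (Subgroup.subgroupOfEquivOfLe bf.WQ).toEquiv, cardW]
      rw [h2, exc.cardQ] at h1
      omega
    have h3 := Subgroup.pow_index_mem ((Wb p X).subgroupOf (Qb p X)) (⟨u, hu⟩ : ↥(Qb p X))
    rw [hidx, Subgroup.mem_subgroupOf] at h3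
    simpa using h3
  have sqW : ∀ u ∈ Qb p X, u * u ∈ Wb p X → u ∈ Wb p X := by
    intro u hu huu
    have h1 : u = u ^ 9 * ((u * u)⁻¹) ^ 4 := by group
    rw [h1]
    exact (Wb p X).mul_mem (u9 u hu) ((Wb p X).pow_mem ((Wb p X).inv_mem huu) 4)
  have QZ : ∀ u ∈ Qb p X, ∀ u' ∈ Qb p X, u * u' * u⁻¹ * u'⁻¹ ∈ Zb p X := by
    intro u hu u' hu'
    have h := Subgroup.commutator_mem_commutator hu hu'
    rw [exc.comm, commutatorElement_def] at h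
    exact h
  have QneW : ¬ Qb p X ≤ Wb p X := by
    intro h
    have h1 := Subgroup.card_le_of_le h
    rw [exc.cardQ, cardW] at h1
    omega
  have invW : ∀ w ∈ Wb p X, z * w * z⁻¹ = w⁻¹ → w ∈ Ab p X := by
    intro w hw h
    obtain ⟨a, ha, ζ, hζ, rfl⟩ := exc.WAZ w hw
    have h1 : z * a * z⁻¹ = a⁻¹ := q8.invA a ha
    have h2 : ζ * z = z * ζ := bf.ZC ζ hζ z hzX
    have h3 : a * ζ = ζ * a := bf.WcQ a (bf.AW ha) ζ (hZQ hζ)
    have h4 : z * (a * ζ) * z⁻¹ = a⁻¹ * ζ := by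
      calc z * (a * ζ) * z⁻¹ = (z * a * z⁻¹) * (z * ζ) * z⁻¹ := by group
        _ = a⁻¹ * (ζ * z) * z⁻¹ := by rw [h1, h2]
        _ = a⁻¹ * ζ := by group
    have h5 : (a * ζ)⁻¹ = a⁻¹ * ζ⁻¹ := by
      rw [h3, mul_inv_rev]
    rw [h4, h5] at h
    have h6 : ζ = ζ⁻¹ := mul_left_cancel h
    have h7 : ζ = 1 := by
      have hζ3 : ζ ^ 3 = 1 := b1.W3 ζ (hZW hζ)
      have hζ2 : ζ ^ 2 = 1 := by
        rw [pow_two]
        nth_rewrite 2 [h6]
        exact mul_inv_cancel ζ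
      calc ζ = ζ ^ 3 * (ζ ^ 2)⁻¹ := by group
        _ = 1 := by rw [hζ3, hζ2]; simp
    rw [h7, mul_one]; exact ha
  have noInv : ∀ x ∈ S₀, (∀ u ∈ Qb p X, x * u * x⁻¹ ∈ Qb p X) →
      (∀ w ∈ Wb p X, x * w * x⁻¹ * w⁻¹ ∈ Zb p X) →
      (∀ c ∈ pCore p G, ∀ u ∈ Qb p X,
        (x * c * x⁻¹ * c⁻¹) * u * (x * c * x⁻¹ * c⁻¹)⁻¹ * u⁻¹ ∈ Zb p X) →
      (∀ u ∈ Qb p X, x * u * x⁻¹ * u ∈ Wb p X) → False := by
    intro x hx h1 h2 h3 h4
    apply QneW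
    intro u hu
    apply sqW u hu
    have h5 := nq x hx h1 h2 h3 u hu
    have h6 := h4 u hu
    have h7 : u * u = (x * u * x⁻¹ * u⁻¹)⁻¹ * (x * u * x⁻¹ * u) := by group
    rw [h7]
    exact (Wb p X).mul_mem ((Wb p X).inv_mem h5) h6
  exact ⟨exc, nq, ZV, WV, cardW, u9, sqW, QZ, QneW, invW, noInv⟩

end Cfsg.Agent.Lib.Helper62.SnB
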