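import Mathlib
import Cfsg.Agent.Lib.Helper83.SnB.Q8MDefs

set_option autoImplicit false

/-!
S2986, package [Q8-M] (helper83), sub-package [M-ZQ]: `Q = [O_p(G), z]`.
-/

namespace Cfsg.Agent.Lib.Helper62.SnB

open Cfsg Cfsg.Agent.Lib.Helper41.SnB Cfsg.Agent.Lib.Helper34.SnB Cfsg.Agent.Lib.Helper83.SnB

universe u

/-- [M-ZQ] `Q = [O_p(G), z]`. -/
theorem pkgZQ : PkgZQ.{u} := by
  intro G _ _ p _ S₀ X K z gf sb bf q8 b1 alt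
  have hzX : z ∈ X := q8.KX q8.zK
  obtain ⟨T, hT⟩ : ∃ T : Subgroup G,
      T = Subgroup.closure {g : G | ∃ c ∈ pCore p G, g = z * c * z⁻¹ * c⁻¹} := ⟨_, rfl⟩
  rw [← hT]
  have hgen : ∀ c ∈ pCore p G, z * c * z⁻¹ * c⁻¹ ∈ T := by
    intro c hc; rw [hT]; exact Subgroup.subset_closure ⟨c, hc, rfl⟩
  have hTQ : T ≤ Qb p X := by
    rw [hT, Subgroup.closure_le]
    rintro g ⟨c, hc, rfl⟩
    exact b1.PXQ z hzX c hc
  have hAT : Ab p X ≤ T := by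
    intro a ha
    have h1 : z * a * z⁻¹ = a⁻¹ := q8.invA a ha
    have h3 : a ^ 3 = 1 := b1.W3 a (bf.AW ha)
    have h2 : a = z * a * z⁻¹ * a⁻¹ := by
      rw [h1]
      calc a = a ^ 3 * (a⁻¹ * a⁻¹) := by group
        _ = a⁻¹ * a⁻¹ := by rw [h3, one_mul]
    rw [h2]
    exact hgen a (sb.QP (bf.WQ (bf.AW ha)))
  apply le_antisymm _ hTQ
  rcases alt with nb | xb
  · rw [nb.1]; exact hAT
  · have hZW : Zb p X ≤ Wb p X := inf_le_left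
    have hdec : ∀ u ∈ Qb p X, ∃ t ∈ T, ∃ ζ ∈ Zb p X, u = t * ζ := by
      intro u hu
      have hd1 : (z * u * z⁻¹ * u⁻¹)⁻¹ ∈ T := T.inv_mem (hgen u (sb.QP hu))
      have hw1 : z * u * z⁻¹ * u ∈ Wb p X := xb.exc.invQ u hu
      have hu9 : u ^ 9 ∈ Wb p X := xb.u9 u hu
      have huu : u * u = (z * u * z⁻¹ * u⁻¹)⁻¹ * (z * u * z⁻¹ * u) := by group
      have hcomm : (z * u * z⁻¹ * u) * (z * u * z⁻¹ * u⁻¹)⁻¹
          = (z * u * z⁻¹ * u⁻¹)⁻¹ * (z * u * z⁻¹ * u) := bf.WcQ _ hw1 _ (hTQ hd1)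
      obtain ⟨d, hd⟩ : ∃ d, d = (z * u * z⁻¹ * u⁻¹)⁻¹ := ⟨_, rfl⟩
      obtain ⟨w, hw⟩ : ∃ w, w = z * u * z⁻¹ * u := ⟨_, rfl⟩
      rw [← hd, ← hw] at huu hcomm
      rw [← hd] at hd1
      rw [← hw] at hw1
      have hC : Commute w d := hcomm
      have h4 : (u * u) ^ 4 = d ^ 4 * w ^ 4 := by rw [huu]; exact (hC.symm.mul_pow 4)
      have hC9 : Commute (u ^ 9) (d⁻¹ ^ 4) :=
        bf.WcQ _ hu9 _ (hTQ (T.pow_mem (T.inv_mem hd1) 4))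
      have h5 : u = (d⁻¹) ^ 4 * (u ^ 9 * (w⁻¹) ^ 4) := by
        have h6 : u = u ^ 9 * ((u * u) ^ 4)⁻¹ := by
          have h61 : (u * u) ^ 4 = u ^ 8 := by rw [← pow_two, ← pow_mul]
          have h62 : u ^ 9 = u * u ^ 8 := pow_succ' u 8
          rw [h61, h62, mul_assoc, mul_inv_cancel, mul_one]
        have h7 : ((u * u) ^ 4)⁻¹ = (d⁻¹) ^ 4 * (w⁻¹) ^ 4 := by
          rw [h4, mul_inv_rev, inv_pow, inv_pow]
          exact ((hC.pow_pow 4 4).inv_inv).eq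
        rw [h7, ← mul_assoc, hC9.eq, mul_assoc] at h6
        exact h6
      obtain ⟨a, ha, ζ, hζ, hw'⟩ := xb.exc.WAZ (u ^ 9 * (w⁻¹) ^ 4)
        ((Wb p X).mul_mem hu9 ((Wb p X).pow_mem ((Wb p X).inv_mem hw1) 4))
      refine ⟨(d⁻¹) ^ 4 * a, T.mul_mem (T.pow_mem (T.inv_mem hd1) 4) (hAT ha), ζ, hζ, ?_⟩
      rw [mul_assoc, ← hw']; exact h5
    have hZT : Zb p X ≤ T := by
      rw [← xb.exc.comm, Subgroup.commutator_le]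
      intro u hu u' hu'
      rw [commutatorElement_def]
      obtain ⟨t, ht, ζ, hζ, rfl⟩ := hdec u hu
      obtain ⟨t', ht', ζ', hζ', rfl⟩ := hdec u' hu'
      have e : t * ζ * (t' * ζ') * (t * ζ)⁻¹ * (t' * ζ')⁻¹ = t * t' * t⁻¹ * t'⁻¹ := by
        have c1 : ζ * t' = t' * ζ := bf.WcQ ζ (hZW hζ) t' (hTQ ht')
        have c2 : ζ * ζ' = ζ' * ζ := bf.WcQ ζ (hZW hζ) ζ' (bf.WQ (hZW hζ'))
        have c3 : ζ' * t⁻¹ = t⁻¹ * ζ' := bf.WcQ ζ' (hZW hζ') t⁻¹ (hTQ (T.inv_mem ht))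
        calc t * ζ * (t' * ζ') * (t * ζ)⁻¹ * (t' * ζ')⁻¹
            = t * (ζ * t') * ζ' * ζ⁻¹ * t⁻¹ * ζ'⁻¹ * t'⁻¹ := by group
          _ = t * t' * (ζ * ζ') * ζ⁻¹ * t⁻¹ * ζ'⁻¹ * t'⁻¹ := by rw [c1]; group
          _ = t * t' * (ζ' * t⁻¹) * ζ'⁻¹ * t'⁻¹ := by rw [c2]; group
          _ = t * t' * t⁻¹ * t'⁻¹ := by rw [c3]; group
      rw [e]
      exact T.mul_mem (T.mul_mem (T.mul_mem ht ht') (T.inv_mem ht)) (T.inv_mem ht')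
    intro u hu
    obtain ⟨t, ht, ζ, hζ, rfl⟩ := hdec u hu
    exact T.mul_mem ht (hZT hζ)

end Cfsg.Agent.Lib.Helper62.SnB
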